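import Cfsg.Agent.AutPSU.Par
import Cfsg.Agent.AutPSU.Frame
import Cfsg.Prelude.Def_LieRecognition

/-! # The Sylow two-subgroup of a three-dimensional unitary group in even characteristic

The group of pairs `(x, d)` with `d + σ d = x σ x`, and its embedding as a Sylow two-subgroup. -/

set_option autoImplicit false

namespace Cfsg.Agent.PSU3Sylow

open Cfsg.Agent.AutPSU Classical.Herm

variable {F : Type*} [Field F] [CharP F 2] {σ : F →+* F} {q : ℕ} (hu : UCtx σ q)

/-- Pairs with prescribed trace. -/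
@[ext]
structure Heis {F : Type*} [Field F] {σ : F →+* F} {q : ℕ} (hu : UCtx σ q) where
  x : F
  d : F
  cond : d + σ d = x * σ x

namespace Heis

variable {hu}

instance : Mul (Heis hu) := ⟨fun a b => ⟨a.x + b.x, a.d + b.d + σ a.x * b.x, by
  simp only [map_add, map_mul, hu.invol]
  linear_combination a.cond + b.cond⟩⟩

instance : One (Heis hu) := ⟨⟨0, 0, by simp⟩⟩

instance : Inv (Heis hu) := ⟨fun a => ⟨a.x, σ a.d, by
  rw [hu.invol, add_comm]; exact a.cond⟩⟩

@[simp] theorem mul_x (a b : Heis hu) : (a * b).x = a.x + b.x := rfl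
@[simp] theorem mul_d (a b : Heis hu) : (a * b).d = a.d + b.d + σ a.x * b.x := rfl
@[simp] theorem one_x : (1 : Heis hu).x = 0 := rfl
@[simp] theorem one_d : (1 : Heis hu).d = 0 := rfl
@[simp] theorem inv_x (a : Heis hu) : a⁻¹.x = a.x := rfl
@[simp] theorem inv_d (a : Heis hu) : a⁻¹.d = σ a.d := rfl

instance : Group (Heis hu) := Group.ofLeftAxioms
  (fun a b c => Heis.ext (by simp [add_assoc]) (by simp [map_add]; ring))
  (fun a => Heis.ext (by simp) (by simp))
  (fun a => Heis.ext (by simp [CharTwo.add_self_eq_zero]) (by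
    simp only [mul_d, inv_d, inv_x, one_d]
    rw [show σ a.d + a.d = a.d + σ a.d by ring, a.cond, mul_comm (σ a.x), CharTwo.add_self_eq_zero]))

/-- The trace zero elements are the fixed field. -/
theorem fix_iff {d : F} : d + σ d = 0 ↔ σ d = d := by
  rw [CharTwo.add_eq_zero]; exact eq_comm

/-- A central element. -/
def zc (c : F) (hc : σ c = c) : Heis hu := ⟨0, c, by rw [fix_iff.mpr hc]; simp⟩

theorem sigma_of_x_zero (a : Heis hu) (ha : a.x = 0) : σ a.d = a.d :=
  fix_iff.mp (by rw [a.cond, ha, zero_mul])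

theorem commute_iff (a b : Heis hu) : a * b = b * a ↔ σ a.x * b.x = σ b.x * a.x := by
  rw [Heis.ext_iff, mul_x, mul_x, mul_d, mul_d, add_comm a.x b.x, add_comm a.d b.d]
  simp

theorem exists_lift (x : F) : ∃ a : Heis hu, a.x = x := by
  obtain ⟨d, hd⟩ := exists_trace hu.toIsInvol (a := x * σ x) (by rw [map_mul, hu.invol, mul_comm])
  exact ⟨⟨x, d, hd⟩, rfl⟩

theorem mem_center_iff_x (a : Heis hu) : a ∈ Subgroup.center (Heis hu) ↔ a.x = 0 := by
  rw [Subgroup.mem_center_iff]
  refine ⟨fun h => ?_, fun h g => (commute_iff g a).mpr (by rw [h, mul_zero, map_zero, zero_mul])⟩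
  obtain ⟨b, hb⟩ := exists_lift (hu := hu) 1
  have h1 := (commute_iff b a).mp (h b)
  rw [hb, map_one, one_mul, mul_one] at h1
  obtain ⟨z, hz⟩ := exists_moved hu.toIsInvol
  obtain ⟨c, hc⟩ := exists_lift (hu := hu) z
  have h2 := (commute_iff c a).mp (h c)
  rw [hc, ← h1] at h2
  by_contra hne
  exact hz (mul_right_cancel₀ hne (h2.trans (mul_comm _ _)))

theorem mul_self (a : Heis hu) :
    a * a = zc (σ a.x * a.x) (by rw [map_mul, hu.invol, mul_comm]) :=
  Heis.ext (by simp [zc, CharTwo.add_self_eq_zero]) (by simp [zc, CharTwo.add_self_eq_zero])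

theorem mul_self_eq_one_iff (a : Heis hu) : a * a = 1 ↔ a.x = 0 := by
  rw [mul_self, Heis.ext_iff]
  simp [zc]

theorem mul_self_mem_center (a : Heis hu) : a * a ∈ Subgroup.center (Heis hu) := by
  rw [mul_self, mem_center_iff_x]; rfl

open scoped commutatorElement in
theorem commutator_mem_center (a b : Heis hu) : ⁅a, b⁆ ∈ Subgroup.center (Heis hu) := by
  rw [mem_center_iff_x, commutatorElement_def]
  simp only [mul_x, inv_x]
  linear_combination CharTwo.add_self_eq_zero a.x + CharTwo.add_self_eq_zero b.x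

open scoped commutatorElement in
theorem center_le_commutator {z : Heis hu} (hz : z ∈ Subgroup.center (Heis hu)) :
    ∃ a b : Heis hu, ⁅a, b⁆ = z := by
  rw [mem_center_iff_x] at hz
  obtain ⟨c, hc⟩ := exists_trace hu.toIsInvol (sigma_of_x_zero z hz)
  obtain ⟨a, ha⟩ := exists_lift (hu := hu) 1
  obtain ⟨b, hb⟩ := exists_lift (hu := hu) c
  refine ⟨a, b, ?_⟩
  have h : a * b = z * (b * a) := by
    refine Heis.ext ?_ ?_
    · simp only [mul_x, hz]; ring
    · simp only [mul_d, mul_x, hz, ha, hb, map_one, map_zero, one_mul, mul_one, zero_mul]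
      rw [← hc]
      linear_combination -CharTwo.add_self_eq_zero (σ c)
  rw [commutatorElement_def, h]
  group

/-- Pairs over the centre. -/
noncomputable def centerEquiv : Subgroup.center (Heis hu) ≃ fixField σ where
  toFun a := ⟨a.1.d, sigma_of_x_zero a.1 ((mem_center_iff_x a.1).mp a.2)⟩
  invFun c := ⟨zc c.1 c.2, (mem_center_iff_x _).mpr rfl⟩
  left_inv a := Subtype.ext (Heis.ext ((mem_center_iff_x a.1).mp a.2).symm rfl)
  right_inv _ := rfl

theorem card_center : Nat.card (Subgroup.center (Heis hu)) = q :=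
  (Nat.card_congr centerEquiv).trans hu.card_fix

theorem card_eq [Fintype F] : Nat.card (Heis hu) = q ^ 3 := by
  have hex : ∀ x : F, ∃ d : F, d + σ d = x * σ x := fun x =>
    exists_trace hu.toIsInvol (by rw [map_mul, hu.invol, mul_comm])
  choose d₀ hd₀ using hex
  let E : Heis hu ≃ F × fixField σ :=
    { toFun := fun a => (a.x, ⟨a.d - d₀ a.x, fix_iff.mp (by
        rw [map_sub]; linear_combination a.cond - hd₀ a.x)⟩)
      invFun := fun v => ⟨v.1, v.2.1 + d₀ v.1, by
        rw [map_add]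
        linear_combination (fix_iff.mpr v.2.2 : (v.2.1 : F) + σ v.2.1 = 0) + hd₀ v.1⟩
      left_inv := fun a => Heis.ext rfl (sub_add_cancel _ _)
      right_inv := fun v => Prod.ext rfl (Subtype.ext (add_sub_cancel_right _ _)) }
  rw [Nat.card_congr E, Nat.card_prod, card_eq_fix_sq hu.toIsInvol, hu.card_fix]
  ring

theorem fixed (c : fixField σ) : σ (c : F) = c := c.2

/-- Multiplication by a unit of the fixed field. -/
def scale (u : (fixField σ)ˣ) : MulAut (Heis hu) where
  toFun a := ⟨(u : fixField σ) * a.x, ((u : fixField σ) : F) ^ 2 * a.d, by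
    rw [map_mul, map_mul, map_pow, fixed (u : fixField σ)]
    linear_combination ((u : fixField σ) : F) ^ 2 * a.cond⟩
  invFun a := ⟨(u⁻¹ : (fixField σ)ˣ).1 * a.x, (((u⁻¹ : (fixField σ)ˣ).1 : F)) ^ 2 * a.d, by
    rw [map_mul, map_mul, map_pow, fixed ((u⁻¹ : (fixField σ)ˣ) : fixField σ)]
    linear_combination (((u⁻¹ : (fixField σ)ˣ) : fixField σ) : F) ^ 2 * a.cond⟩
  left_inv a := by
    have h : (((u⁻¹ : (fixField σ)ˣ) : fixField σ) : F) * ((u : fixField σ) : F) = 1 := by
      rw [← Subring.coe_mul]; simp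
    refine Heis.ext ?_ ?_
    · show _ * (_ * a.x) = a.x; rw [← mul_assoc, h, one_mul]
    · show _ * (_ * a.d) = a.d; rw [← mul_assoc, ← mul_pow, h, one_pow, one_mul]
  right_inv a := by
    have h : ((u : fixField σ) : F) * (((u⁻¹ : (fixField σ)ˣ) : fixField σ) : F) = 1 := by
      rw [← Subring.coe_mul]; simp
    refine Heis.ext ?_ ?_
    · show _ * (_ * a.x) = a.x; rw [← mul_assoc, h, one_mul]
    · show _ * (_ * a.d) = a.d; rw [← mul_assoc, ← mul_pow, h, one_pow, one_mul]
  map_mul' a b := by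
    refine Heis.ext (mul_add _ _ _) ?_
    show _ * (a.d + b.d + σ a.x * b.x) = _ * a.d + _ * b.d + σ (_ * a.x) * (_ * b.x)
    rw [map_mul, fixed (u : fixField σ)]
    ring

/-- The scalings, as a homomorphism. -/
def scaleHom : (fixField σ)ˣ →* MulAut (Heis hu) where
  toFun := scale
  map_one' := by
    refine MulEquiv.ext fun a => Heis.ext ?_ ?_ <;> simp [scale]
  map_mul' u v := by
    refine MulEquiv.ext fun a => Heis.ext ?_ ?_ <;> simp [scale] <;> ring

theorem isSuzuki [Fintype F] (hq : 3 ≤ q) : Cfsg.IsSuzukiTwoGroup (Heis hu) := by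
  haveI : Finite (fixField σ) := Nat.finite_of_card_ne_zero (by rw [hu.card_fix]; omega)
  haveI : Finite (Heis hu) := Nat.finite_of_card_ne_zero (by rw [card_eq]; positivity)
  obtain ⟨k, -, hk⟩ := FiniteField.card F 2
  have hqF : q ^ 2 = 2 ^ (k : ℕ) := by
    rw [← hk, ← Nat.card_eq_fintype_card, card_eq_fix_sq hu.toIsInvol, hu.card_fix]
  obtain ⟨m, -, hm⟩ := (Nat.dvd_prime_pow Nat.prime_two).mp (Dvd.intro _ (pow_two q ▸ hqF))
  haveI : Fact (Nat.Prime 2) := ⟨Nat.prime_two⟩
  refine ⟨‹_›, IsPGroup.of_card (n := m * 3) (by rw [card_eq, hm, ← pow_mul]), ?_, ?_,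
    (scaleHom (hu := hu)).range, ?_, ?_⟩
  · obtain ⟨a, ha⟩ := exists_lift (hu := hu) 1
    by_contra h
    push_neg at h
    exact one_ne_zero (ha.symm.trans ((mem_center_iff_x a).mp
      (Subgroup.mem_center_iff.mpr fun g => h g a)))
  · have h3 : 2 < Nat.card (fixField σ) := by rw [hu.card_fix]; omega
    haveI := Fintype.ofFinite (fixField σ)
    classical
    haveI : Nontrivial (fixField σ) := ⟨0, 1, zero_ne_one⟩
    obtain ⟨c, hc⟩ := exists_ne (0 : fixField σ)
    obtain ⟨c', hc', hcc⟩ : ∃ c' : fixField σ, c' ≠ 0 ∧ c' ≠ c := by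
      rw [Nat.card_eq_fintype_card] at h3
      by_contra h
      push_neg at h
      have hsub : (Finset.univ : Finset (fixField σ)) ⊆ {0, c} := fun y _ => by
        rcases eq_or_ne y 0 with rfl | hy
        · simp
        · simp [h y hy]
      have := Finset.card_le_card hsub
      rw [Finset.card_univ] at this
      exact absurd (this.trans Finset.card_le_two) (by omega)
    refine ⟨zc c.1 c.2, zc c'.1 c'.2, fun e => hcc (Subtype.ext (congrArg Heis.d e)).symm,
      fun e => hc (Subtype.ext (congrArg Heis.d e)), (mul_self_eq_one_iff _).mpr rfl,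
      fun e => hc' (Subtype.ext (congrArg Heis.d e)), (mul_self_eq_one_iff _).mpr rfl⟩
  · exact isCyclic_of_surjective (scaleHom (hu := hu)).rangeRestrict
      (scaleHom (hu := hu)).rangeRestrict_surjective
  · intro a b ha1 ha hb1 hb
    rw [mul_self_eq_one_iff] at ha hb
    have had : a.d ≠ 0 := fun e => ha1 (Heis.ext ha e)
    have hbd : b.d ≠ 0 := fun e => hb1 (Heis.ext hb e)
    let A : fixField σ := ⟨a.d, sigma_of_x_zero a ha⟩
    let B : fixField σ := ⟨b.d, sigma_of_x_zero b hb⟩
    haveI : CharP (fixField σ) 2 :=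
      (algebraMap (fixField σ) F).charP (algebraMap (fixField σ) F).injective 2
    obtain ⟨s, hs⟩ := (PerfectRing.bijective_frobenius (R := fixField σ) (p := 2)).surjective (B / A)
    simp only [frobenius_def] at hs
    have hA : A ≠ 0 := fun e => had (congrArg Subtype.val e)
    have hs0 : s ≠ 0 := by
      rintro rfl
      have hB : B / A = 0 := by rw [← hs]; simp
      exact hbd (congrArg Subtype.val ((div_eq_zero_iff.mp hB).resolve_right hA))
    have hsA : s ^ 2 * A = B := by rw [hs, div_mul_cancel₀ _ hA]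
    refine ⟨⟨scale (Units.mk0 s hs0), ⟨_, rfl⟩⟩,
      Heis.ext (by show _ * a.x = b.x; rw [ha, mul_zero, hb]) (congrArg Subtype.val hsA), ?_⟩
    rintro ⟨_, u, rfl⟩ hk'
    have hu2 : (u : fixField σ) ^ 2 * A = B := Subtype.ext (congrArg Heis.d hk')
    have huv : (u : fixField σ) = s := by
      apply (PerfectRing.bijective_frobenius (R := fixField σ) (p := 2)).injective
      simp only [frobenius_def]
      exact mul_right_cancel₀ hA (hu2.trans hsA.symm)
    exact Subtype.ext (congrArg scale (Units.ext huv : u = Units.mk0 s hs0))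

end Heis

open Heis in
/-- The group of pairs embeds as a Sylow two-subgroup. -/
theorem exists_equiv [Fintype F] {m : ℕ} (hm : 1 ≤ m) (hq : q = 2 ^ m)
    (S : Sylow 2 (Cfsg.PSU 3 F q)) :
    Nonempty (↥(S : Subgroup (Cfsg.PSU 3 F q)) ≃* Heis hu) := by
  haveI : Fact (Nat.Prime 2) := ⟨Nat.prime_two⟩
  obtain ⟨e, f, he, hf, hef, -⟩ := exists_fixed_pair hu 2 (le_refl 3)
  have H : HP σ e f := ⟨he, hf, hef⟩
  obtain ⟨bb, hb, hbW, -⟩ := H.exists_frame hu (n := 3) (by omega)
  have hb1 : hB 3 σ (bb 0) (bb 0) = 1 := by simpa using hb 0 0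
  have hbne : bb 0 ≠ 0 := fun h => by simp [h] at hb1
  have hW : ∀ x : F, InW σ e f (x • bb 0) := fun x => (hbW 0).smul x
  have hself : ∀ x y : F, hB 3 σ (x • bb 0) (y • bb 0) = σ x * y := fun x y => by
    simp only [map_smulₛₗ, LinearMap.smul_apply, smul_eq_mul, RingHom.id_apply, hb1]
    ring
  have hd : ∀ a : Heis hu, a.d + σ a.d = -hB 3 σ (a.x • bb 0) (a.x • bb 0) := fun a => by
    rw [hself, a.cond, CharTwo.neg_eq, mul_comm]
  let φ : Heis hu →* Cfsg.PSU 3 F q := MonoidHom.mk'
    (fun a => mkU (eS hu e (a.x • bb 0) a.d)) fun a b => by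
      show _ = mkU _ * mkU _
      rw [← map_mul, eS_mul hu (H.isE hu (hW _) (hd a)) (H.isE hu (hW _) (hd b)), hself, ← add_smul,
        CharTwo.sub_eq_add]
      rfl
  have hinj : Function.Injective φ := fun a b hab => by
    obtain ⟨h1, h2⟩ := eS_mkU_inj hu 2 (le_refl 3) H (hW _) (hW _) (hd a) (hd b) hab
    exact Heis.ext (smul_left_injective F hbne h1) h2
  have hcard : Nat.card φ.range = 2 ^ (m * 3) := by
    rw [← Nat.card_congr (MonoidHom.ofInjective hinj).toEquiv, card_eq, hq, ← pow_mul]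
  have hidx : ¬ 2 ∣ φ.range.index := by
    intro hdvd
    have h := Classical.card_GU_formula (n := 3) hu.toIsInvol hu.pow hu.card_fix
    rw [← Classical.card_SU_mul_eq_GU hu.toIsInvol hu.pow hu.card_fix (by norm_num),
      (Subgroup.center (Cfsg.SU 3 F q)).card_eq_card_quotient_mul_card_subgroup] at h
    rw [show Nat.card (Cfsg.SU 3 F q ⧸ Subgroup.center (Cfsg.SU 3 F q)) =
      Nat.card φ.range * φ.range.index from (φ.range.card_mul_index).symm] at h
    rw [show Nat.card φ.range = q ^ 3 by rw [hcard, hq, ← pow_mul]] at h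
    simp [Finset.prod_range_succ, Nat.even_iff] at h
    have hq2 : Even q := by rw [hq, Nat.even_pow]; exact ⟨even_two, by omega⟩
    have h1 : 0 < q ^ 3 := by rw [hq]; positivity
    have h2 : φ.range.index * (Nat.card (Subgroup.center (Cfsg.SU 3 F q)) * (q + 1)) =
        (q + 1) * (q ^ 2 - 1) * (q ^ 3 + 1) := Nat.eq_of_mul_eq_mul_left h1 (by linarith)
    have hodd : Odd ((q + 1) * (q ^ 2 - 1) * (q ^ 3 + 1)) := by
      refine ((hq2.add_one).mul ?_).mul (((Nat.even_pow).mpr ⟨hq2, by norm_num⟩).add_one)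
      exact Nat.Even.sub_odd (Nat.one_le_pow _ _ (by rw [hq]; positivity))
        ((Nat.even_pow).mpr ⟨hq2, by norm_num⟩) odd_one
    exact (Nat.not_even_iff_odd.mpr hodd) (even_iff_two_dvd.mpr (h2 ▸ dvd_mul_of_dvd_left hdvd _))
  let T : Sylow 2 (Cfsg.PSU 3 F q) := (IsPGroup.of_card hcard).toSylow hidx
  exact ⟨(S.equiv T).trans (MonoidHom.ofInjective hinj).symm⟩

/-- In a finite field with `2 ^ k` elements the characteristic is two. -/
theorem charTwo {F : Type*} [Field F] [Fintype F] {k : ℕ} (hF : Fintype.card F = 2 ^ k) :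
    CharP F 2 := by
  have h := FiniteField.cast_card_eq_zero F
  rw [hF, Nat.cast_pow] at h
  exact (CharP.charP_iff_prime_eq_zero Nat.prime_two).mpr (by exact_mod_cast eq_zero_of_pow_eq_zero h)

/-- Being a Suzuki two-group is invariant under isomorphism. -/
theorem isSuzuki_of_equiv {P Q : Type*} [Group P] [Group Q] (e : P ≃* Q)
    (h : Cfsg.IsSuzukiTwoGroup Q) : Cfsg.IsSuzukiTwoGroup P := by
  obtain ⟨hfin, hp, ⟨x, y, hxy⟩, ⟨u, v, huv, hu1, huu, hv1, hvv⟩, K, hK, hreg⟩ := h
  refine ⟨Finite.of_equiv Q e.symm.toEquiv, hp.of_equiv e.symm, ⟨e.symm x, e.symm y, fun hc => hxy ?_⟩,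
    ⟨e.symm u, e.symm v, fun hc => huv (e.symm.injective hc), ?_, ?_, ?_, ?_⟩,
    K.map (MulAut.congr e.symm).toMonoidHom, ?_, ?_⟩
  · rw [← map_mul, ← map_mul] at hc; exact e.symm.injective hc
  · exact fun hc => hu1 (by simpa using congrArg e hc)
  · rw [← map_mul, huu, map_one]
  · exact fun hc => hv1 (by simpa using congrArg e hc)
  · rw [← map_mul, hvv, map_one]
  · exact isCyclic_of_surjective _
      (Subgroup.equivMapOfInjective K _ (MulAut.congr e.symm).injective).surjective
  · intro a b ha1 ha hb1 hb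
    obtain ⟨k, hk, huniq⟩ := hreg (e a) (e b) (by simpa using ha1) (by rw [← map_mul, ha, map_one])
      (by simpa using hb1) (by rw [← map_mul, hb, map_one])
    refine ⟨⟨_, k.1, k.2, rfl⟩, ?_, ?_⟩
    · show e.symm ((k : MulAut Q) (e.symm.symm a)) = b
      rw [MulEquiv.symm_symm, hk, MulEquiv.symm_apply_apply]
    · rintro ⟨_, j, hj, rfl⟩ hjb
      have h1 : e.symm (j (e a)) = b := hjb
      have hj' := huniq ⟨j, hj⟩ (by show j (e a) = e b; rw [← h1, MulEquiv.apply_symm_apply])
      exact Subtype.ext (congrArg (MulAut.congr e.symm).toMonoidHom (congrArg Subtype.val hj'))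

end Cfsg.Agent.PSU3Sylow
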